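import Groth.Agent.LocH.Annihilator
import Groth.Agent.LocH.Killing

/-!
# The formula of Auslander and Buchsbaum over a Noetherian local ring
-/

set_option autoImplicit false
set_option linter.style.haveILetI false

universe u

open CategoryTheory IsLocalRing

namespace Groth.Agent.AusBuc

variable {R : Type u} [CommRing R] [IsLocalRing R] [IsNoetherianRing R]

theorem exists_socle {H : Type u} [AddCommGroup H] [Module R H] :
    ∀ (n : ℕ) (x : H), x ≠ 0 → (∀ a ∈ maximalIdeal R ^ n, a • x = 0) →
      ∃ y : H, y ≠ 0 ∧ ∀ a ∈ maximalIdeal R, a • y = 0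
  | 0, x, hx, h => absurd (by simpa using h 1 (by simp)) hx
  | n + 1, x, hx, h => by
    by_cases hc : ∀ a ∈ maximalIdeal R, a • x = 0
    · exact ⟨x, hx, hc⟩
    · push Not at hc
      obtain ⟨a, ha, hax⟩ := hc
      refine exists_socle n (a • x) hax fun b hb => ?_
      rw [← mul_smul]
      exact h _ (by rw [pow_succ]; exact Ideal.mul_mem_mul hb ha)

theorem exists_minimal_presentation (M : Type u) [AddCommGroup M] [Module R M] [Module.Finite R M] :
    ∃ (n : ℕ) (f : (Fin n → R) →ₗ[R] M), Function.Surjective f ∧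
      ∀ v ∈ LinearMap.ker f, ∀ j, v j ∈ maximalIdeal R := by
  classical
  have hex : ∃ n, ∃ f : (Fin n → R) →ₗ[R] M, Function.Surjective f := Module.Finite.exists_fin' R M
  obtain ⟨f, hf⟩ := Nat.find_spec hex
  refine ⟨Nat.find hex, f, hf, fun v hv j => ?_⟩
  by_contra hcon
  rw [mem_maximalIdeal, mem_nonunits_iff, not_not] at hcon
  obtain ⟨k, hk⟩ : ∃ k, Nat.find hex = k + 1 := ⟨Nat.find hex - 1, by have := j.2; omega⟩
  refine Nat.find_min hex (show k < Nat.find hex by omega) ?_
  let J : Fin (k + 1) := Fin.cast hk j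
  let ι : (Fin k → R) →ₗ[R] (Fin (Nat.find hex) → R) :=
    { toFun := fun w i => (Fin.insertNth J (0 : R) w : Fin (k + 1) → R) (Fin.cast hk i)
      map_add' := fun w w' => funext fun i => by
        obtain ⟨i', hi'⟩ : ∃ i', Fin.cast hk i = i' := ⟨_, rfl⟩
        simp only [Pi.add_apply, hi']
        refine Fin.succAboveCases J ?_ (fun l => ?_) i' <;> simp
      map_smul' := fun c w => funext fun i => by
        obtain ⟨i', hi'⟩ : ∃ i', Fin.cast hk i = i' := ⟨_, rfl⟩
        simp only [Pi.smul_apply, RingHom.id_apply, hi']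
        refine Fin.succAboveCases J ?_ (fun l => ?_) i' <;> simp }
  refine ⟨f.comp ι, fun m => ?_⟩
  obtain ⟨w, rfl⟩ := hf m
  let w' := w - (w j * ↑hcon.unit⁻¹) • v
  have hw' : w' j = 0 := by
    simp [w', mul_assoc]
  refine ⟨fun l => w' (Fin.cast hk.symm (J.succAbove l)), ?_⟩
  have h1 : ι (fun l => w' (Fin.cast hk.symm (J.succAbove l))) = w' := funext fun i => by
    obtain ⟨i', rfl⟩ : ∃ i', i = Fin.cast hk.symm i' := ⟨Fin.cast hk i, by simp⟩
    show (Fin.insertNth J (0 : R) (fun l => w' (Fin.cast hk.symm (J.succAbove l))) : Fin (k + 1) → R)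
      (Fin.cast hk (Fin.cast hk.symm i')) = w' (Fin.cast hk.symm i')
    refine Fin.succAboveCases J ?_ (fun l => ?_) i'
    · simp [J, hw']
    · simp
  show f (ι _) = f w
  rw [h1, map_sub, map_smul, LinearMap.mem_ker.mp hv, smul_zero, sub_zero]

theorem map_smul_hom {X Y : ModuleCat.{u} R} (I : Ideal R) (i : ℕ) (c : R) (g : X ⟶ Y)
    (x : ↑((localCohomology I i).obj X)) :
    (localCohomology I i).map (c • g) x = c • (localCohomology I i).map g x := by
  rw [show c • g = g ≫ (c • 𝟙 Y) by rw [Linear.comp_smul, Category.comp_id], Functor.map_comp]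
  exact LocH.map_smul_id_apply c i _

theorem depth_pi {s n : ℕ} (hn : n ≠ 0) (hs : LocCoh.depth R R = s) :
    LocCoh.depth R (Fin n → R) = s := by
  obtain ⟨h1, h2⟩ := (LocH.idealDepth_eq_iff s).mp hs
  refine (LocH.idealDepth_eq_iff s).mpr ⟨fun i hi => LocH.subsingleton_pi (h1 i hi) n, ?_⟩
  obtain ⟨x, hx⟩ := exists_ne (0 : LocCoh.H (maximalIdeal R) s R)
  let j : Fin n := ⟨0, Nat.pos_of_ne_zero hn⟩
  let a : ModuleCat.of R R ⟶ ModuleCat.of R (Fin n → R) := ModuleCat.ofHom (LinearMap.single R (fun _ => R) j)
  let b : ModuleCat.of R (Fin n → R) ⟶ ModuleCat.of R R := ModuleCat.ofHom (LinearMap.proj j)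
  refine nontrivial_of_ne ((localCohomology _ s).map a x) 0 fun h => hx ?_
  have hab : a ≫ b = 𝟙 _ := by ext; simp [a, b]
  have := congrArg ((localCohomology (maximalIdeal R) s).map b) h
  rwa [map_zero, ← ConcreteCategory.comp_apply, ← Functor.map_comp, hab, CategoryTheory.Functor.map_id,
    ConcreteCategory.id_apply] at this

theorem depth_add_pd {s : ℕ} (hs : LocCoh.depth R R = s) :
    ∀ (e : ℕ) (M : Type u) [AddCommGroup M] [Module R M] [Module.Finite R M] [Nontrivial M],
      SerreReg.PdLE R M e → (∀ e', e' < e → ¬ SerreReg.PdLE R M e') →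
        ∃ t : ℕ, t + e = s ∧ LocCoh.depth R M = t := by
  classical
  obtain ⟨hlow, hnt⟩ := (LocH.idealDepth_eq_iff s).mp hs
  intro e
  induction e with
  | zero =>
    intro M _ _ _ _ h0 _
    refine ⟨s, rfl, ?_⟩
    haveI := (SerreReg.pdLE_zero_iff M).mp h0
    haveI : Module.FinitePresentation R M := Module.finitePresentation_of_finite R M
    haveI : Module.Free R M := Module.free_of_flat_of_isLocalRing
    let ι := Module.Free.ChooseBasisIndex R M
    haveI : Fintype ι := Module.Free.ChooseBasisIndex.fintype R M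
    haveI : Nonempty ι := (Module.Free.chooseBasis R M).index_nonempty
    let q : M ≃ₗ[R] (Fin (Fintype.card ι) → R) :=
      ((Module.Free.chooseBasis R M).reindex (Fintype.equivFin ι)).equivFun
    rw [LocCoh.depth, LocH.idealDepth_congr q]
    exact depth_pi Fintype.card_ne_zero hs
  | succ e ih =>
    intro M _ _ _ _ hM hmin
    obtain ⟨n, f, hf, hker⟩ := exists_minimal_presentation (R := R) M
    have hn : n ≠ 0 := by
      rintro rfl
      haveI : Subsingleton M := hf.subsingleton
      exact not_subsingleton M ‹_›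
    let K := LinearMap.ker f
    have hK : SerreReg.PdLE R K e := (SerreReg.pdLE_succ_iff f hf e).mp hM
    have hKmin : ∀ e', e' < e → ¬ SerreReg.PdLE R K e' := fun e' he' h =>
      hmin (e' + 1) (by omega) ((SerreReg.pdLE_succ_iff f hf e').mpr h)
    haveI : Nontrivial K := by
      by_contra hcon
      rw [not_nontrivial_iff_subsingleton] at hcon
      refine hmin 0 (by omega) ((SerreReg.pdLE_zero_iff M).mpr ?_)
      have hinj : Function.Injective f := LinearMap.ker_eq_bot.mp (Submodule.subsingleton_iff_eq_bot.mp hcon)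
      exact Module.Projective.of_equiv (LinearEquiv.ofBijective f ⟨hinj, hf⟩)
    obtain ⟨t, ht, hdK⟩ := ih K hK hKmin
    obtain ⟨hKlow, hKnt⟩ := (LocH.idealDepth_eq_iff t).mp hdK
    let S : ShortComplex (ModuleCat.{u} R) :=
      ShortComplex.mk (X₁ := ModuleCat.of R K) (X₂ := ModuleCat.of R (Fin n → R)) (X₃ := ModuleCat.of R M)
        (ModuleCat.ofHom K.subtype) (ModuleCat.ofHom f) (by ext x; exact x.2)
    have hS : S.ShortExact :=
      { exact := (ShortComplex.ShortExact.moduleCat_exact_iff_function_exact S).2 (LinearMap.exact_subtype_ker_map f)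
        mono_f := (ModuleCat.mono_iff_injective _).2 K.injective_subtype
        epi_g := (ModuleCat.epi_iff_surjective _).2 hf }
    have hFlow : ∀ i, i < s → Subsingleton (LocCoh.H (maximalIdeal R) i (Fin n → R)) := fun i hi =>
      LocH.subsingleton_pi (hlow i hi) n
    -- the map on `H^t` out of the kernel is not injective
    have hnoninj : ∃ z : LocCoh.H (maximalIdeal R) t K, z ≠ 0 ∧
        (localCohomology (maximalIdeal R) t).map S.f z = 0 := by
      rcases Nat.eq_zero_or_pos e with rfl | he
      · haveI := (SerreReg.pdLE_zero_iff K).mp hK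
        haveI : Module.FinitePresentation R K := Module.finitePresentation_of_finite R K
        haveI : Module.Free R K := Module.free_of_flat_of_isLocalRing
        let B := Module.Free.chooseBasis R K
        haveI : Fintype (Module.Free.ChooseBasisIndex R K) := Module.Free.ChooseBasisIndex.fintype R K
        haveI := B.index_nonempty
        obtain rfl : t = s := by omega
        let j := Classical.arbitrary (Module.Free.ChooseBasisIndex R K)
        let a : ModuleCat.of R R ⟶ ModuleCat.of R K := ModuleCat.ofHom (LinearMap.toSpanSingleton R K (B j))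
        let b : ModuleCat.of R K ⟶ ModuleCat.of R R := ModuleCat.ofHom (B.coord j)
        have hab : a ≫ b = 𝟙 _ := by ext; simp [a, b]
        obtain ⟨x, hx⟩ := exists_ne (0 : LocCoh.H (maximalIdeal R) t R)
        obtain ⟨m, hm⟩ := LocH.isPowerTorsion (maximalIdeal R) t (ModuleCat.of R R) x
        obtain ⟨y, hy, hykill⟩ := exists_socle m x hx hm
        refine ⟨(localCohomology _ t).map a y, fun h => hy ?_, ?_⟩
        · have := congrArg ((localCohomology (maximalIdeal R) t).map b) h
          rwa [map_zero, ← ConcreteCategory.comp_apply, ← Functor.map_comp, hab, CategoryTheory.Functor.map_id,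
            ConcreteCategory.id_apply] at this
        · let e' : Fin n → (ModuleCat.of R R ⟶ ModuleCat.of R (Fin n → R)) := fun l =>
            ModuleCat.ofHom (LinearMap.single R (fun _ => R) l)
          have hcomp : a ≫ S.f = ∑ l, (B j : Fin n → R) l • e' l := by
            refine ModuleCat.hom_ext (LinearMap.ext_ring ?_)
            rw [ModuleCat.hom_sum, LinearMap.sum_apply]
            simp only [S, a, e', ModuleCat.hom_comp, ModuleCat.hom_ofHom, LinearMap.comp_apply,
              ModuleCat.hom_smul, LinearMap.smul_apply, LinearMap.toSpanSingleton_apply, one_smul,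
              Submodule.subtype_apply, LinearMap.coe_single]
            exact pi_eq_sum_univ' _
          rw [← ConcreteCategory.comp_apply, ← Functor.map_comp, hcomp, Functor.map_sum]
          change (∑ l, (localCohomology (maximalIdeal R) t).map ((B j : Fin n → R) l • e' l)).hom y = 0
          rw [ModuleCat.hom_sum, LinearMap.sum_apply]
          refine Finset.sum_eq_zero fun l _ => ?_
          show (localCohomology (maximalIdeal R) t).map ((B j : Fin n → R) l • e' l) y = 0
          rw [map_smul_hom, ← map_smul, hykill _ (hker _ (B j).2 l), map_zero]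
      · obtain ⟨z, hz⟩ := exists_ne (0 : LocCoh.H (maximalIdeal R) t K)
        exact ⟨z, hz, (hFlow t (by omega)).elim _ _⟩
    obtain ⟨z, hz, hz0⟩ := hnoninj
    obtain ⟨t', rfl⟩ : ∃ t', t = t' + 1 := by
      refine ⟨t - 1, ?_⟩
      by_contra hcon
      obtain rfl : t = 0 := by omega
      refine hz ?_
      haveI : Mono S.f := hS.mono_f
      haveI : Limits.PreservesLimitsOfShape Limits.WalkingCospan (localCohomology (maximalIdeal R) 0) := by
        haveI := Limits.preservesFiniteLimits_of_natIso (LocH.zeroIso (maximalIdeal R)).symm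
        infer_instance
      exact (ModuleCat.mono_iff_injective _).mp (inferInstance : Mono ((localCohomology (maximalIdeal R) 0).map S.f))
        (hz0.trans (map_zero _).symm)
    refine ⟨t', by omega, (LocH.idealDepth_eq_iff t').mpr ⟨fun i hi => ?_, ?_⟩⟩
    · exact LocH.subsingleton_X₃ hS i (hFlow i (by omega)) (hKlow (i + 1) (by omega))
    · obtain ⟨y, hy⟩ := LocH.exact₁ hS t' hz0
      exact nontrivial_of_ne y 0 fun h => hz (by rw [← hy, h, map_zero])

end Groth.Agent.AusBuc
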